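import Cfsg.Agent.Comp.G22.Data

set_option autoImplicit false
set_option maxRecDepth 100000
set_option Elab.async false

namespace Cfsg.Agent.Comp.G22

theorem s0 : allR J.slpAt 0 30 = true := by decide +kernel
theorem l2 : J.lvlAt L2 [] = true := by decide +kernel
theorem q2_0 : allR (schChk J.E L2 [] J.AB h2 (nat_lit 1) (nat_lit 1)) 0 6 = true := by decide +kernel
theorem l1 : J.lvlAt L1 [L2] = true := by decide +kernel
theorem q1_0 : allR (schChk J.E L1 [L2] J.AB h1 (nat_lit 10) (nat_lit 1023)) 0 32 = true := by decide +kernel
theorem l0 : J.lvlAt L0 [L1, L2] = true := by decide +kernel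
theorem q0_0 : allR (schChk J.E L0 [L1, L2] J.AB h0 (nat_lit 20) (nat_lit 1048575)) 0 63 = true := by decide +kernel
theorem rp : J.repsAt (nat_lit 16) xs = true := by decide +kernel
noncomputable def t58 : ℕ := nat_lit 0x16a4e4380a191365500e191e06400516a082300e2f9d62080e16a4e0a005
theorem n58 : fullChk J.E [L0, L1, L2] R [nat_lit 320, nat_lit 540] t58 (nat_lit 40) (nat_lit 1099511627775) = true := by decide +kernel
noncomputable def t57 : ℕ := nat_lit 0x34a4e9100316a629880716968910034b208780062fa626e00234a2691003
theorem n57 : fullChk J.E [L0, L1, L2] R [nat_lit 320, nat_lit 530] t57 (nat_lit 40) (nat_lit 1099511627775) = true := by decide +kernel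
noncomputable def t56 : ℕ := nat_lit 0x4b24e6b80334968910023497c6b8032f9f41680616a0820807191d66b803
theorem n56 : fullChk J.E [L0, L1, L2] R [nat_lit 320, nat_lit 440] t56 (nat_lit 40) (nat_lit 1099511627775) = true := by decide +kernel
noncomputable def t55 : ℕ := nat_lit 0x1914a758014b2081e0044b21c4880e2f9c200010169c22580316a1c8980e
theorem n55 : fullChk J.E [L0, L1, L2] R [nat_lit 320, nat_lit 560] t55 (nat_lit 40) (nat_lit 1099511627775) = true := by decide +kernel
noncomputable def t54 : ℕ := nat_lit 0x191863980e191c257808191688700e169d6028102fa4e1b81016a1211802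
theorem n54 : fullChk J.E [L0, L1, L2] R [nat_lit 320, nat_lit 330] t54 (nat_lit 40) (nat_lit 1099511627775) = true := by decide +kernel
noncomputable def t53 : ℕ := nat_lit 0x1694a4d804349681180b2f9684d8044b1906180b1917c6900b169364d809
theorem n53 : fullChk J.E [L0, L1, L2] R [nat_lit 320, nat_lit 310] t53 (nat_lit 40) (nat_lit 1099511627775) = true := by decide +kernel
noncomputable def t52 : ℕ := nat_lit 0x4623a6e0104b17c1b801169360f0051917c050062f986320071917232003
theorem n52 : fullChk J.E [L0, L1, L2] R [nat_lit 320, nat_lit 110] t52 (nat_lit 40) (nat_lit 1099511627775) = true := by decide +kernel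
noncomputable def t51 : ℕ := nat_lit 0x16a62140104b1680000e4b1a443805192306b8074b1403c006461541680f
theorem n51 : fullChk J.E [L0, L1, L2] R [nat_lit 320, nat_lit 100] t51 (nat_lit 40) (nat_lit 1099511627775) = true := by decide +kernel
noncomputable def t50 : ℕ := nat_lit 0x169363c001349868c0031917c1900e191f482003169400500f461fe7d001
theorem n50 : fullChk J.E [L0, L1, L2] R [nat_lit 320, nat_lit 20] t50 (nat_lit 40) (nat_lit 1099511627775) = true := by decide +kernel
noncomputable def t49 : ℕ := nat_lit 0x192262f80e169b88e80f4b1681900e4b1ae8480f349400000f2f9367f80e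
theorem n49 : fullChk J.E [L0, L1, L2] R [nat_lit 320, nat_lit 0] t49 (nat_lit 40) (nat_lit 1099511627775) = true := by decide +kernel
noncomputable def t48 : ℕ := nat_lit 0x4400000120480000000000210000000000048000000004821000000880004800044000000000011088220000000011000210480008400000120002100000000000840000011000120000000000
theorem n48 : redChk J.E [L0, L1, L2] J.AV [nat_lit 320] [nat_lit 199546880, nat_lit 293918720] t48 [nat_lit 0, nat_lit 20, nat_lit 100, nat_lit 110, nat_lit 310, nat_lit 330, nat_lit 560, nat_lit 440, nat_lit 530, nat_lit 540] = true := by decide +kernel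
noncomputable def t47 : ℕ := nat_lit 0x34986348014b1e0578041914a4100e169c20a01016a267d0032f9cc2300e
theorem n47 : fullChk J.E [L0, L1, L2] R [nat_lit 230, nat_lit 540] t47 (nat_lit 40) (nat_lit 1099511627775) = true := by decide +kernel
noncomputable def t46 : ℕ := nat_lit 0x1918648801349682301034a620a006191c2410054b2308c00334a1c96007
theorem n46 : fullChk J.E [L0, L1, L2] R [nat_lit 230, nat_lit 490] t46 (nat_lit 40) (nat_lit 1099511627775) = true := by decide +kernel
noncomputable def t45 : ℕ := nat_lit 0x2f99a3e80e34a121e0081694a73001169688981019212078101923a0a001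
theorem n45 : fullChk J.E [L0, L1, L2] R [nat_lit 230, nat_lit 450] t45 (nat_lit 40) (nat_lit 1099511627775) = true := by decide +kernel
noncomputable def t44 : ℕ := nat_lit 0x1699a4d8052fa1c5f0064b15e6680f2f972370072fa624d80e1695e66810
theorem n44 : fullChk J.E [L0, L1, L2] R [nat_lit 230, nat_lit 430] t44 (nat_lit 40) (nat_lit 1099511627775) = true := by decide +kernel
noncomputable def t43 : ℕ := nat_lit 0x34972118104b2263480e2f9400c8042f9546b8071926296006169a42d003
theorem n43 : fullChk J.E [L0, L1, L2] R [nat_lit 230, nat_lit 380] t43 (nat_lit 40) (nat_lit 1099511627775) = true := by decide +kernel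
noncomputable def t42 : ℕ := nat_lit 0x191681400119212910042f9fe9b007462263980c1921c23008169361b806
theorem n42 : fullChk J.E [L0, L1, L2] R [nat_lit 230, nat_lit 560] t42 (nat_lit 40) (nat_lit 1099511627775) = true := by decide +kernel
noncomputable def t41 : ℕ := nat_lit 0x169b8320054b2261b801191c248810191865f0074b17c2300616a2619003
theorem n41 : fullChk J.E [L0, L1, L2] R [nat_lit 230, nat_lit 350] t41 (nat_lit 40) (nat_lit 1099511627775) = true := by decide +kernel
noncomputable def t40 : ℕ := nat_lit 0x34a0800006169fe34810169ae8200716a447f80f169727a805169549380e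
theorem n40 : fullChk J.E [L0, L1, L2] R [nat_lit 230, nat_lit 480] t40 (nat_lit 40) (nat_lit 1099511627775) = true := by decide +kernel
noncomputable def t39 : ℕ := nat_lit 0x2f9ae348082f9860a00e2f9a46e003169902d00e169d639801349865c80a
theorem n39 : fullChk J.E [L0, L1, L2] R [nat_lit 230, nat_lit 260] t39 (nat_lit 40) (nat_lit 1099511627775) = true := by decide +kernel
noncomputable def t38 : ℕ := nat_lit 0x169ea3e80116a624b0082f936078074619a5c8103495e4881034a6228006
theorem n38 : fullChk J.E [L0, L1, L2] R [nat_lit 230, nat_lit 240] t38 (nat_lit 40) (nat_lit 1099511627775) = true := by decide +kernel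
noncomputable def t37 : ℕ := nat_lit 0x2f9ea4380e169c289805192587d00e169ea230104b26c1180f34a4e43801
theorem n37 : fullChk J.E [L0, L1, L2] R [nat_lit 230, nat_lit 130] t37 (nat_lit 40) (nat_lit 1099511627775) = true := by decide +kernel
noncomputable def t36 : ℕ := nat_lit 0x191725c8014b15e2300316a1c0f00e2f9f46e01016a6284805349ae82001
theorem n36 : fullChk J.E [L0, L1, L2] R [nat_lit 230, nat_lit 110] t36 (nat_lit 40) (nat_lit 1099511627775) = true := by decide +kernel
noncomputable def t35 : ℕ := nat_lit 0x16a260500646136938041694a398074b1368980316a0861810169363c00e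
theorem n35 : fullChk J.E [L0, L1, L2] R [nat_lit 230, nat_lit 90] t35 (nat_lit 40) (nat_lit 1099511627775) = true := by decide +kernel
noncomputable def t34 : ℕ := nat_lit 0x16a26140014b24e050102fa3a1b806169865c8084b16848810349f428007
theorem n34 : fullChk J.E [L0, L1, L2] R [nat_lit 230, nat_lit 80] t34 (nat_lit 40) (nat_lit 1099511627775) = true := by decide +kernel
noncomputable def t33 : ℕ := nat_lit 0x1923a9b007191fe6b8104b1407d00b16a120c8034b258550044b1f452806
theorem n33 : fullChk J.E [L0, L1, L2] R [nat_lit 230, nat_lit 20] t33 (nat_lit 40) (nat_lit 1099511627775) = true := by decide +kernel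
noncomputable def t32 : ℕ := nat_lit 0x1694a25803461365f0011697c3700f1697c5f0012fa1c8c00b4b2120c803
theorem n32 : fullChk J.E [L0, L1, L2] R [nat_lit 230, nat_lit 30] t32 (nat_lit 40) (nat_lit 1099511627775) = true := by decide +kernel
noncomputable def t31 : ℕ := nat_lit 0x44110000004400000000001100000000000001100000000000440004400000110000000000044000440000000000000001104400044110000000000000000000000000000110000004400
theorem n31 : redChk J.E [L0, L1, L2] J.AV [nat_lit 230] [nat_lit 199546880] t31 [nat_lit 30, nat_lit 20, nat_lit 80, nat_lit 90, nat_lit 110, nat_lit 130, nat_lit 240, nat_lit 260, nat_lit 480, nat_lit 350, nat_lit 560, nat_lit 380, nat_lit 430, nat_lit 450, nat_lit 490, nat_lit 540] = true := by decide +kernel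
noncomputable def t30 : ℕ := nat_lit 0x349e01400134a08870104b1f40f00e46168028031699a1e005461367f801
theorem n30 : fullChk J.E [L0, L1, L2] R [nat_lit 20, nat_lit 450] t30 (nat_lit 40) (nat_lit 1099511627775) = true := by decide +kernel
noncomputable def t29 : ℕ := nat_lit 0x461901901034a621680116968578054613682001169687d00e349e002803
theorem n29 : fullChk J.E [L0, L1, L2] R [nat_lit 20, nat_lit 430] t29 (nat_lit 40) (nat_lit 1099511627775) = true := by decide +kernel
noncomputable def t28 : ℕ := nat_lit 0x2fa12708054b1e0190013495443810169685780116a3a9b00e2f96802803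
theorem n28 : fullChk J.E [L0, L1, L2] R [nat_lit 20, nat_lit 400] t28 (nat_lit 40) (nat_lit 1099511627775) = true := by decide +kernel
noncomputable def t27 : ℕ := nat_lit 0x4b2121900134a082f8101914a5f00134a26028031697c2f805191364100e
theorem n27 : fullChk J.E [L0, L1, L2] R [nat_lit 20, nat_lit 390] t27 (nat_lit 40) (nat_lit 1099511627775) = true := by decide +kernel
noncomputable def t26 : ℕ := nat_lit 0x2f9f43c0054b23002802192621b805192582a80e34a621b80e191f416809
theorem n26 : fullChk J.E [L0, L1, L2] R [nat_lit 20, nat_lit 380] t26 (nat_lit 40) (nat_lit 1099511627775) = true := by decide +kernel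
noncomputable def t25 : ℕ := nat_lit 0x2f9e00c810191361900b1921c4881016a26168014b136168012f94a11808
theorem n25 : fullChk J.E [L0, L1, L2] R [nat_lit 20, nat_lit 350] t25 (nat_lit 40) (nat_lit 1099511627775) = true := by decide +kernel
noncomputable def t24 : ℕ := nat_lit 0x1694a8700e19186780103495e028024b2441b8104b154168084b24e9100e
theorem n24 : fullChk J.E [L0, L1, L2] R [nat_lit 20, nat_lit 340] t24 (nat_lit 40) (nat_lit 1099511627775) = true := by decide +kernel
noncomputable def t23 : ℕ := nat_lit 0x1695e550014b1fe14009349369b00134a58898051695e43805349541180b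
theorem n23 : fullChk J.E [L0, L1, L2] R [nat_lit 20, nat_lit 330] t23 (nat_lit 40) (nat_lit 1099511627775) = true := by decide +kernel
noncomputable def t22 : ℕ := nat_lit 0x192089100e349863e81016a3a0280216a120c8104b1ae1680816a624600e
theorem n22 : fullChk J.E [L0, L1, L2] R [nat_lit 20, nat_lit 320] t22 (nat_lit 40) (nat_lit 1099511627775) = true := by decide +kernel
noncomputable def t21 : ℕ := nat_lit 0x16a261b805461f41180b4b2627a8051695452801169f452801169fe11809
theorem n21 : fullChk J.E [L0, L1, L2] R [nat_lit 20, nat_lit 310] t21 (nat_lit 40) (nat_lit 1099511627775) = true := by decide +kernel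
noncomputable def t20 : ℕ := nat_lit 0x2f9403980e19186168102fa260c80e16968500054b1cc1680f349d616801
theorem n20 : fullChk J.E [L0, L1, L2] R [nat_lit 20, nat_lit 220] t20 (nat_lit 40) (nat_lit 1099511627775) = true := by decide +kernel
noncomputable def t19 : ℕ := nat_lit 0x191c2410102f9c20a00e4b2260c80f16a3a2d001191ae2080e2f9f439805
theorem n19 : fullChk J.E [L0, L1, L2] R [nat_lit 20, nat_lit 210] t19 (nat_lit 40) (nat_lit 1099511627775) = true := by decide +kernel
noncomputable def t18 : ℕ := nat_lit 0x1699a1680f1924e9b0011926c3e805169a41900e191ea2f80e462621b810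
theorem n18 : fullChk J.E [L0, L1, L2] R [nat_lit 20, nat_lit 270] t18 (nat_lit 40) (nat_lit 1099511627775) = true := by decide +kernel
noncomputable def t17 : ℕ := nat_lit 0x16a3a0a00f1925816801191fe3980516a261b80e169fe3480e349684b010
theorem n17 : fullChk J.E [L0, L1, L2] R [nat_lit 20, nat_lit 280] t17 (nat_lit 40) (nat_lit 1099511627775) = true := by decide +kernel
noncomputable def t16 : ℕ := nat_lit 0x2f9540a00f349b88200e169fe0c805192582300e4b1f48e801169ea7d010
theorem n16 : fullChk J.E [L0, L1, L2] R [nat_lit 20, nat_lit 180] t16 (nat_lit 40) (nat_lit 1099511627775) = true := by decide +kernel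
noncomputable def t15 : ℕ := nat_lit 0x4b2441b80f4b15e4880e191b87d005462622300e2f98648801461a47d010
theorem n15 : fullChk J.E [L0, L1, L2] R [nat_lit 20, nat_lit 170] t15 (nat_lit 40) (nat_lit 1099511627775) = true := by decide +kernel
noncomputable def t14 : ℕ := nat_lit 0x191b8898104b1540a00e3495e3980516a622580e169684d8014b1ea1e00f
theorem n14 : fullChk J.E [L0, L1, L2] R [nat_lit 20, nat_lit 160] t14 (nat_lit 40) (nat_lit 1099511627775) = true := by decide +kernel
noncomputable def t13 : ℕ := nat_lit 0x16a261b810349f40a00e34a4423005191363980e1914a1400134a261b80f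
theorem n13 : fullChk J.E [L0, L1, L2] R [nat_lit 20, nat_lit 150] t13 (nat_lit 40) (nat_lit 1099511627775) = true := by decide +kernel
noncomputable def t12 : ℕ := nat_lit 0x110001100011044000000004411000000000000011044000001104411044000001104400000000000000000000000000000000000000000000000
theorem n12 : redChk J.E [L0, L1, L2] J.AV [nat_lit 20] [nat_lit 105175040] t12 [nat_lit 150, nat_lit 160, nat_lit 170, nat_lit 180, nat_lit 280, nat_lit 270, nat_lit 210, nat_lit 220, nat_lit 310, nat_lit 320, nat_lit 330, nat_lit 340, nat_lit 350, nat_lit 380, nat_lit 390, nat_lit 400, nat_lit 430, nat_lit 450] = true := by decide +kernel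
noncomputable def t11 : ℕ := nat_lit 0x3497c0000316a082d0064614a000034b2081b8071926c00002191ea00003
theorem n11 : fullChk J.E [L0, L1, L2] R [nat_lit 0, nat_lit 540] t11 (nat_lit 40) (nat_lit 1099511627775) = true := by decide +kernel
noncomputable def t10 : ℕ := nat_lit 0x16a1c000034b1f4140064b212000032fa4e0000216936460071693600003
theorem n10 : fullChk J.E [L0, L1, L2] R [nat_lit 0, nat_lit 570] t10 (nat_lit 40) (nat_lit 1099511627775) = true := by decide +kernel
noncomputable def t9 : ℕ := nat_lit 0x34a120f008169b84880b191860a00c34954078011914a05001169b800004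
theorem n9 : fullChk J.E [L0, L1, L2] R [nat_lit 0, nat_lit 500] t9 (nat_lit 40) (nat_lit 1099511627775) = true := by decide +kernel
noncomputable def t8 : ℕ := nat_lit 0x34a6c23005169900a00b169ea0a00a349404880b349f40500b2f9b816805
theorem n8 : fullChk J.E [L0, L1, L2] R [nat_lit 0, nat_lit 430] t8 (nat_lit 40) (nat_lit 1099511627775) = true := by decide +kernel
noncomputable def t7 : ℕ := nat_lit 0x191d6000034b2260000b34a3a2d00a349c22a806169d62f8071697c05008
theorem n7 : fullChk J.E [L0, L1, L2] R [nat_lit 0, nat_lit 360] t7 (nat_lit 40) (nat_lit 1099511627775) = true := by decide +kernel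
noncomputable def t6 : ℕ := nat_lit 0x191f40000b349d6000032f9b8168062f9ea00008349ae2f80a169724b007
theorem n6 : fullChk J.E [L0, L1, L2] R [nat_lit 0, nat_lit 390] t6 (nat_lit 40) (nat_lit 1099511627775) = true := by decide +kernel
noncomputable def t5 : ℕ := nat_lit 0x2f9ae050012f99a32005191b81900b191863c0053497205009169cc02801
theorem n5 : fullChk J.E [L0, L1, L2] R [nat_lit 0, nat_lit 340] t5 (nat_lit 40) (nat_lit 1099511627775) = true := by decide +kernel
noncomputable def t4 : ℕ := nat_lit 0x1695e05001349cc028093497c0f0011923a1b805191864b0054b2121180b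
theorem n4 : fullChk J.E [L0, L1, L2] R [nat_lit 0, nat_lit 330] t4 (nat_lit 40) (nat_lit 1099511627775) = true := by decide +kernel
noncomputable def t3 : ℕ := nat_lit 0x4b1f43480b2f96800004461c21680b191e0000043494a000094b19a4600b
theorem n3 : fullChk J.E [L0, L1, L2] R [nat_lit 0, nat_lit 320] t3 (nat_lit 40) (nat_lit 1099511627775) = true := by decide +kernel
noncomputable def t2 : ℕ := nat_lit 0x4b1c20500c2f9360280b191ea7580c16a1c2580b191fe0c80b169cc9880d
theorem n2 : fullChk J.E [L0, L1, L2] R [nat_lit 0, nat_lit 310] t2 (nat_lit 40) (nat_lit 1099511627775) = true := by decide +kernel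
noncomputable def t1 : ℕ := nat_lit 0x1204822048110002108800044220840004411044220841100022048110002204800044000000000000000000000000000000000000000000000000000000000000000000000000000000000000000
theorem n1 : redChk J.E [L0, L1, L2] J.AV [nat_lit 0] [nat_lit 293918720, nat_lit 199546880] t1 [nat_lit 310, nat_lit 320, nat_lit 330, nat_lit 340, nat_lit 390, nat_lit 360, nat_lit 430, nat_lit 500, nat_lit 570, nat_lit 540] = true := by decide +kernel
noncomputable def t0 : ℕ := nat_lit 0x2210421108320c411148310c8121442210421108411084210432148510c43214831144411040018452084410c84210421000221443110841108221081114452048310c8510c4110c4120c80008400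
theorem n0 : redChk J.E [L0, L1, L2] J.AV [] [nat_lit 94894080, nat_lit 94935040] t0 [nat_lit 0, nat_lit 20, nat_lit 230, nat_lit 320] = true := by decide +kernel
theorem sp : specChk J.E [L0, L1, L2] R os [1, 2, 3, 4, 6, 7, 8, 12] = true := by decide +kernel

end Cfsg.Agent.Comp.G22
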