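import Cfsg.Agent.Comp.G22.Lin
import Cfsg.Agent.Comp.Chev
import Cfsg.Prelude.Def_ChevG2

set_option autoImplicit false
set_option maxRecDepth 100000
set_option Elab.async false

namespace Cfsg.Agent.Comp.G22

open Cfsg.Agent.Spec

noncomputable def Xs : ℕ := nat_lit 0x80190802080410080010802000400080010002000400080058001000200040008001000200040008001000200040008001840100b210040008401000210040008001000200040028009800100020004000800100020004000800100020004000800191212242044408081010002000480090010002000400480018001000200040008001000200040008001000200040008001aa0100022004230a00154020004400800140020004008802180010002000400080010002000400080010002000400080018001d002400500090810002e004000a0018002000400080418001000200040008001000200040008001000200040008001c001000200060008001810200060008001000300040208001800100020004000800100020004000800100020004000800180030002000400180010006040400180010002000c04080018001000200040008001000200040008001000200040008001800100060014000801d000200242028009002e0004000820180010002000400080010002000400080010002000400080018001000a0004008800100aa00140108c1100020154100840180010002000400080010002000400080010002000400080018001000200240048001000202040408081191212242008001800100020004000800100020004000800100020004000800180010002000400080210002008400080210402c08440090018001000200040008001000200040008001000200040008001800100020004000800100420004020804100422006000a0018001000200040008001000200040008001000200040008001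
noncomputable def Xc (r t : ℕ) : ℕ := lk[nat_lit 0xfffffffffffffffffffffffffffffffffffffffffffffffff, Xs, Nat.mul (nat_lit 196) (Nat.add (Nat.mul (nat_lit 2) r) t)]
theorem xt : all1 (fun r => xTab O ic2 Cfsg.Lie.chevG2 S r (Xc r)) 0 12 = true := by decide +kernel
theorem inv1 : all1 (fun j => mmOne O S (nth As j) (nth As j)) (nat_lit 0) 12 = true := by decide +kernel
theorem As_eq : all1 (fun r => Nat.beq (nth As r) (Xc r 1)) 0 12 = true := by decide +kernel
theorem X0 : all1 (fun r => Nat.beq (Xc r 0) (Xc 0 0)) 0 12 = true := by decide +kernel
theorem X1 : mmOne O S (Xc 0 0) (Xc 0 0) = true := by decide +kernel
theorem X2 : allL (fun i => mvChk O S (Xc 0 0) (P.c i) (P.c i)) bl = true := by decide +kernel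

end Cfsg.Agent.Comp.G22
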