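import Cfsg.Agent.Comp.G22.Chk0

set_option autoImplicit false
set_option maxRecDepth 100000
set_option Elab.async false

namespace Cfsg.Agent.Comp.G22

theorem hs : ∀ j, j < J.N' → J.slpAt j = true := (range_step (lo := 0) 30 range_start s0)

theorem chain3 {Γ X : Type*} [Group Γ] [MulAction Γ X] {T : Lst X J.n} {gen : ℕ → Γ} {A : Subgroup Γ} (h : J.Model T gen A) : ChainOK h.M J.E (J.el gen) [] := trivial

theorem chain2 {Γ X : Type*} [Group Γ] [MulAction Γ X] {T : Lst X J.n} {gen : ℕ → Γ} {A : Subgroup Γ} (h : J.Model T gen A) : ChainOK h.M J.E (J.el gen) [L2] :=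
  h.chain_cons hs (chain3 h) l2 (range_step (lo := 0) 6 range_start q2_0)

theorem chain1 {Γ X : Type*} [Group Γ] [MulAction Γ X] {T : Lst X J.n} {gen : ℕ → Γ} {A : Subgroup Γ} (h : J.Model T gen A) : ChainOK h.M J.E (J.el gen) [L1, L2] :=
  h.chain_cons hs (chain2 h) l1 (range_step (lo := 0) 32 range_start q1_0)

theorem chain0 {Γ X : Type*} [Group Γ] [MulAction Γ X] {T : Lst X J.n} {gen : ℕ → Γ} {A : Subgroup Γ} (h : J.Model T gen A) : ChainOK h.M J.E (J.el gen) [L0, L1, L2] :=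
  h.chain_cons hs (chain1 h) l0 (range_step (lo := 0) 63 range_start q0_0)

theorem GpL_eq {Γ : Type*} [Group Γ] (gen : ℕ → Γ) : GpL (J.el gen) [L0, L1, L2] = J.G gen := Job.GpL_top rfl rfl

theorem card {Γ X : Type*} [Group Γ] [MulAction Γ X] {T : Lst X J.n} {gen : ℕ → Γ} {A : Subgroup Γ} (h : J.Model T gen A) : Nat.card (J.G gen) = 12096 := by
  rw [← GpL_eq, (chain0 h).card]; rfl

theorem finite {Γ X : Type*} [Group Γ] [MulAction Γ X] {T : Lst X J.n} {gen : ℕ → Γ} {A : Subgroup Γ} (h : J.Model T gen A) : Finite (J.G gen) := by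
  rw [← GpL_eq]; exact (chain0 h).finite

theorem ctx {Γ X : Type*} [Group Γ] [MulAction Γ X] {T : Lst X J.n} {gen : ℕ → Γ} {A : Subgroup Γ} (h : J.Model T gen A) : Ctx h.M J.E (J.el gen) [L0, L1, L2] R :=
  h.ctx hs (chain0 h) rfl rfl rp

theorem cov58 {Γ X : Type*} [Group Γ] [MulAction Γ X] {T : Lst X J.n} {gen : ℕ → Γ} {A : Subgroup Γ} (h : J.Model T gen A) : Cov h.M (J.el gen) [L0, L1, L2] R [nat_lit 320, nat_lit 540] :=
  cov_full (ctx h) n58

theorem cov57 {Γ X : Type*} [Group Γ] [MulAction Γ X] {T : Lst X J.n} {gen : ℕ → Γ} {A : Subgroup Γ} (h : J.Model T gen A) : Cov h.M (J.el gen) [L0, L1, L2] R [nat_lit 320, nat_lit 530] :=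
  cov_full (ctx h) n57

theorem cov56 {Γ X : Type*} [Group Γ] [MulAction Γ X] {T : Lst X J.n} {gen : ℕ → Γ} {A : Subgroup Γ} (h : J.Model T gen A) : Cov h.M (J.el gen) [L0, L1, L2] R [nat_lit 320, nat_lit 440] :=
  cov_full (ctx h) n56

theorem cov55 {Γ X : Type*} [Group Γ] [MulAction Γ X] {T : Lst X J.n} {gen : ℕ → Γ} {A : Subgroup Γ} (h : J.Model T gen A) : Cov h.M (J.el gen) [L0, L1, L2] R [nat_lit 320, nat_lit 560] :=
  cov_full (ctx h) n55

theorem cov54 {Γ X : Type*} [Group Γ] [MulAction Γ X] {T : Lst X J.n} {gen : ℕ → Γ} {A : Subgroup Γ} (h : J.Model T gen A) : Cov h.M (J.el gen) [L0, L1, L2] R [nat_lit 320, nat_lit 330] :=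
  cov_full (ctx h) n54

theorem cov53 {Γ X : Type*} [Group Γ] [MulAction Γ X] {T : Lst X J.n} {gen : ℕ → Γ} {A : Subgroup Γ} (h : J.Model T gen A) : Cov h.M (J.el gen) [L0, L1, L2] R [nat_lit 320, nat_lit 310] :=
  cov_full (ctx h) n53

theorem cov52 {Γ X : Type*} [Group Γ] [MulAction Γ X] {T : Lst X J.n} {gen : ℕ → Γ} {A : Subgroup Γ} (h : J.Model T gen A) : Cov h.M (J.el gen) [L0, L1, L2] R [nat_lit 320, nat_lit 110] :=
  cov_full (ctx h) n52

theorem cov51 {Γ X : Type*} [Group Γ] [MulAction Γ X] {T : Lst X J.n} {gen : ℕ → Γ} {A : Subgroup Γ} (h : J.Model T gen A) : Cov h.M (J.el gen) [L0, L1, L2] R [nat_lit 320, nat_lit 100] :=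
  cov_full (ctx h) n51

theorem cov50 {Γ X : Type*} [Group Γ] [MulAction Γ X] {T : Lst X J.n} {gen : ℕ → Γ} {A : Subgroup Γ} (h : J.Model T gen A) : Cov h.M (J.el gen) [L0, L1, L2] R [nat_lit 320, nat_lit 20] :=
  cov_full (ctx h) n50

theorem cov49 {Γ X : Type*} [Group Γ] [MulAction Γ X] {T : Lst X J.n} {gen : ℕ → Γ} {A : Subgroup Γ} (h : J.Model T gen A) : Cov h.M (J.el gen) [L0, L1, L2] R [nat_lit 320, nat_lit 0] :=
  cov_full (ctx h) n49

theorem cov48 {Γ X : Type*} [Group Γ] [MulAction Γ X] {T : Lst X J.n} {gen : ℕ → Γ} {A : Subgroup Γ} (h : J.Model T gen A) : Cov h.M (J.el gen) [L0, L1, L2] R [nat_lit 320] :=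
  cov_red (ctx h) h.hAV n48 (forall_mem_cons' (cov49 h) (forall_mem_cons' (cov50 h) (forall_mem_cons' (cov51 h) (forall_mem_cons' (cov52 h) (forall_mem_cons' (cov53 h) (forall_mem_cons' (cov54 h) (forall_mem_cons' (cov55 h) (forall_mem_cons' (cov56 h) (forall_mem_cons' (cov57 h) (forall_mem_cons' (cov58 h) forall_mem_nil'))))))))))

theorem cov47 {Γ X : Type*} [Group Γ] [MulAction Γ X] {T : Lst X J.n} {gen : ℕ → Γ} {A : Subgroup Γ} (h : J.Model T gen A) : Cov h.M (J.el gen) [L0, L1, L2] R [nat_lit 230, nat_lit 540] :=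
  cov_full (ctx h) n47

theorem cov46 {Γ X : Type*} [Group Γ] [MulAction Γ X] {T : Lst X J.n} {gen : ℕ → Γ} {A : Subgroup Γ} (h : J.Model T gen A) : Cov h.M (J.el gen) [L0, L1, L2] R [nat_lit 230, nat_lit 490] :=
  cov_full (ctx h) n46

theorem cov45 {Γ X : Type*} [Group Γ] [MulAction Γ X] {T : Lst X J.n} {gen : ℕ → Γ} {A : Subgroup Γ} (h : J.Model T gen A) : Cov h.M (J.el gen) [L0, L1, L2] R [nat_lit 230, nat_lit 450] :=
  cov_full (ctx h) n45

theorem cov44 {Γ X : Type*} [Group Γ] [MulAction Γ X] {T : Lst X J.n} {gen : ℕ → Γ} {A : Subgroup Γ} (h : J.Model T gen A) : Cov h.M (J.el gen) [L0, L1, L2] R [nat_lit 230, nat_lit 430] :=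
  cov_full (ctx h) n44

theorem cov43 {Γ X : Type*} [Group Γ] [MulAction Γ X] {T : Lst X J.n} {gen : ℕ → Γ} {A : Subgroup Γ} (h : J.Model T gen A) : Cov h.M (J.el gen) [L0, L1, L2] R [nat_lit 230, nat_lit 380] :=
  cov_full (ctx h) n43

theorem cov42 {Γ X : Type*} [Group Γ] [MulAction Γ X] {T : Lst X J.n} {gen : ℕ → Γ} {A : Subgroup Γ} (h : J.Model T gen A) : Cov h.M (J.el gen) [L0, L1, L2] R [nat_lit 230, nat_lit 560] :=
  cov_full (ctx h) n42

theorem cov41 {Γ X : Type*} [Group Γ] [MulAction Γ X] {T : Lst X J.n} {gen : ℕ → Γ} {A : Subgroup Γ} (h : J.Model T gen A) : Cov h.M (J.el gen) [L0, L1, L2] R [nat_lit 230, nat_lit 350] :=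
  cov_full (ctx h) n41

theorem cov40 {Γ X : Type*} [Group Γ] [MulAction Γ X] {T : Lst X J.n} {gen : ℕ → Γ} {A : Subgroup Γ} (h : J.Model T gen A) : Cov h.M (J.el gen) [L0, L1, L2] R [nat_lit 230, nat_lit 480] :=
  cov_full (ctx h) n40

theorem cov39 {Γ X : Type*} [Group Γ] [MulAction Γ X] {T : Lst X J.n} {gen : ℕ → Γ} {A : Subgroup Γ} (h : J.Model T gen A) : Cov h.M (J.el gen) [L0, L1, L2] R [nat_lit 230, nat_lit 260] :=
  cov_full (ctx h) n39

theorem cov38 {Γ X : Type*} [Group Γ] [MulAction Γ X] {T : Lst X J.n} {gen : ℕ → Γ} {A : Subgroup Γ} (h : J.Model T gen A) : Cov h.M (J.el gen) [L0, L1, L2] R [nat_lit 230, nat_lit 240] :=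
  cov_full (ctx h) n38

theorem cov37 {Γ X : Type*} [Group Γ] [MulAction Γ X] {T : Lst X J.n} {gen : ℕ → Γ} {A : Subgroup Γ} (h : J.Model T gen A) : Cov h.M (J.el gen) [L0, L1, L2] R [nat_lit 230, nat_lit 130] :=
  cov_full (ctx h) n37

theorem cov36 {Γ X : Type*} [Group Γ] [MulAction Γ X] {T : Lst X J.n} {gen : ℕ → Γ} {A : Subgroup Γ} (h : J.Model T gen A) : Cov h.M (J.el gen) [L0, L1, L2] R [nat_lit 230, nat_lit 110] :=
  cov_full (ctx h) n36

theorem cov35 {Γ X : Type*} [Group Γ] [MulAction Γ X] {T : Lst X J.n} {gen : ℕ → Γ} {A : Subgroup Γ} (h : J.Model T gen A) : Cov h.M (J.el gen) [L0, L1, L2] R [nat_lit 230, nat_lit 90] :=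
  cov_full (ctx h) n35

theorem cov34 {Γ X : Type*} [Group Γ] [MulAction Γ X] {T : Lst X J.n} {gen : ℕ → Γ} {A : Subgroup Γ} (h : J.Model T gen A) : Cov h.M (J.el gen) [L0, L1, L2] R [nat_lit 230, nat_lit 80] :=
  cov_full (ctx h) n34

theorem cov33 {Γ X : Type*} [Group Γ] [MulAction Γ X] {T : Lst X J.n} {gen : ℕ → Γ} {A : Subgroup Γ} (h : J.Model T gen A) : Cov h.M (J.el gen) [L0, L1, L2] R [nat_lit 230, nat_lit 20] :=
  cov_full (ctx h) n33

theorem cov32 {Γ X : Type*} [Group Γ] [MulAction Γ X] {T : Lst X J.n} {gen : ℕ → Γ} {A : Subgroup Γ} (h : J.Model T gen A) : Cov h.M (J.el gen) [L0, L1, L2] R [nat_lit 230, nat_lit 30] :=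
  cov_full (ctx h) n32

theorem cov31 {Γ X : Type*} [Group Γ] [MulAction Γ X] {T : Lst X J.n} {gen : ℕ → Γ} {A : Subgroup Γ} (h : J.Model T gen A) : Cov h.M (J.el gen) [L0, L1, L2] R [nat_lit 230] :=
  cov_red (ctx h) h.hAV n31 (forall_mem_cons' (cov32 h) (forall_mem_cons' (cov33 h) (forall_mem_cons' (cov34 h) (forall_mem_cons' (cov35 h) (forall_mem_cons' (cov36 h) (forall_mem_cons' (cov37 h) (forall_mem_cons' (cov38 h) (forall_mem_cons' (cov39 h) (forall_mem_cons' (cov40 h) (forall_mem_cons' (cov41 h) (forall_mem_cons' (cov42 h) (forall_mem_cons' (cov43 h) (forall_mem_cons' (cov44 h) (forall_mem_cons' (cov45 h) (forall_mem_cons' (cov46 h) (forall_mem_cons' (cov47 h) forall_mem_nil'))))))))))))))))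

theorem cov30 {Γ X : Type*} [Group Γ] [MulAction Γ X] {T : Lst X J.n} {gen : ℕ → Γ} {A : Subgroup Γ} (h : J.Model T gen A) : Cov h.M (J.el gen) [L0, L1, L2] R [nat_lit 20, nat_lit 450] :=
  cov_full (ctx h) n30

theorem cov29 {Γ X : Type*} [Group Γ] [MulAction Γ X] {T : Lst X J.n} {gen : ℕ → Γ} {A : Subgroup Γ} (h : J.Model T gen A) : Cov h.M (J.el gen) [L0, L1, L2] R [nat_lit 20, nat_lit 430] :=
  cov_full (ctx h) n29

theorem cov28 {Γ X : Type*} [Group Γ] [MulAction Γ X] {T : Lst X J.n} {gen : ℕ → Γ} {A : Subgroup Γ} (h : J.Model T gen A) : Cov h.M (J.el gen) [L0, L1, L2] R [nat_lit 20, nat_lit 400] :=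
  cov_full (ctx h) n28

theorem cov27 {Γ X : Type*} [Group Γ] [MulAction Γ X] {T : Lst X J.n} {gen : ℕ → Γ} {A : Subgroup Γ} (h : J.Model T gen A) : Cov h.M (J.el gen) [L0, L1, L2] R [nat_lit 20, nat_lit 390] :=
  cov_full (ctx h) n27

theorem cov26 {Γ X : Type*} [Group Γ] [MulAction Γ X] {T : Lst X J.n} {gen : ℕ → Γ} {A : Subgroup Γ} (h : J.Model T gen A) : Cov h.M (J.el gen) [L0, L1, L2] R [nat_lit 20, nat_lit 380] :=
  cov_full (ctx h) n26

theorem cov25 {Γ X : Type*} [Group Γ] [MulAction Γ X] {T : Lst X J.n} {gen : ℕ → Γ} {A : Subgroup Γ} (h : J.Model T gen A) : Cov h.M (J.el gen) [L0, L1, L2] R [nat_lit 20, nat_lit 350] :=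
  cov_full (ctx h) n25

theorem cov24 {Γ X : Type*} [Group Γ] [MulAction Γ X] {T : Lst X J.n} {gen : ℕ → Γ} {A : Subgroup Γ} (h : J.Model T gen A) : Cov h.M (J.el gen) [L0, L1, L2] R [nat_lit 20, nat_lit 340] :=
  cov_full (ctx h) n24

theorem cov23 {Γ X : Type*} [Group Γ] [MulAction Γ X] {T : Lst X J.n} {gen : ℕ → Γ} {A : Subgroup Γ} (h : J.Model T gen A) : Cov h.M (J.el gen) [L0, L1, L2] R [nat_lit 20, nat_lit 330] :=
  cov_full (ctx h) n23

theorem cov22 {Γ X : Type*} [Group Γ] [MulAction Γ X] {T : Lst X J.n} {gen : ℕ → Γ} {A : Subgroup Γ} (h : J.Model T gen A) : Cov h.M (J.el gen) [L0, L1, L2] R [nat_lit 20, nat_lit 320] :=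
  cov_full (ctx h) n22

theorem cov21 {Γ X : Type*} [Group Γ] [MulAction Γ X] {T : Lst X J.n} {gen : ℕ → Γ} {A : Subgroup Γ} (h : J.Model T gen A) : Cov h.M (J.el gen) [L0, L1, L2] R [nat_lit 20, nat_lit 310] :=
  cov_full (ctx h) n21

theorem cov20 {Γ X : Type*} [Group Γ] [MulAction Γ X] {T : Lst X J.n} {gen : ℕ → Γ} {A : Subgroup Γ} (h : J.Model T gen A) : Cov h.M (J.el gen) [L0, L1, L2] R [nat_lit 20, nat_lit 220] :=
  cov_full (ctx h) n20

theorem cov19 {Γ X : Type*} [Group Γ] [MulAction Γ X] {T : Lst X J.n} {gen : ℕ → Γ} {A : Subgroup Γ} (h : J.Model T gen A) : Cov h.M (J.el gen) [L0, L1, L2] R [nat_lit 20, nat_lit 210] :=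
  cov_full (ctx h) n19

theorem cov18 {Γ X : Type*} [Group Γ] [MulAction Γ X] {T : Lst X J.n} {gen : ℕ → Γ} {A : Subgroup Γ} (h : J.Model T gen A) : Cov h.M (J.el gen) [L0, L1, L2] R [nat_lit 20, nat_lit 270] :=
  cov_full (ctx h) n18

theorem cov17 {Γ X : Type*} [Group Γ] [MulAction Γ X] {T : Lst X J.n} {gen : ℕ → Γ} {A : Subgroup Γ} (h : J.Model T gen A) : Cov h.M (J.el gen) [L0, L1, L2] R [nat_lit 20, nat_lit 280] :=
  cov_full (ctx h) n17

theorem cov16 {Γ X : Type*} [Group Γ] [MulAction Γ X] {T : Lst X J.n} {gen : ℕ → Γ} {A : Subgroup Γ} (h : J.Model T gen A) : Cov h.M (J.el gen) [L0, L1, L2] R [nat_lit 20, nat_lit 180] :=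
  cov_full (ctx h) n16

theorem cov15 {Γ X : Type*} [Group Γ] [MulAction Γ X] {T : Lst X J.n} {gen : ℕ → Γ} {A : Subgroup Γ} (h : J.Model T gen A) : Cov h.M (J.el gen) [L0, L1, L2] R [nat_lit 20, nat_lit 170] :=
  cov_full (ctx h) n15

theorem cov14 {Γ X : Type*} [Group Γ] [MulAction Γ X] {T : Lst X J.n} {gen : ℕ → Γ} {A : Subgroup Γ} (h : J.Model T gen A) : Cov h.M (J.el gen) [L0, L1, L2] R [nat_lit 20, nat_lit 160] :=
  cov_full (ctx h) n14

theorem cov13 {Γ X : Type*} [Group Γ] [MulAction Γ X] {T : Lst X J.n} {gen : ℕ → Γ} {A : Subgroup Γ} (h : J.Model T gen A) : Cov h.M (J.el gen) [L0, L1, L2] R [nat_lit 20, nat_lit 150] :=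
  cov_full (ctx h) n13

theorem cov12 {Γ X : Type*} [Group Γ] [MulAction Γ X] {T : Lst X J.n} {gen : ℕ → Γ} {A : Subgroup Γ} (h : J.Model T gen A) : Cov h.M (J.el gen) [L0, L1, L2] R [nat_lit 20] :=
  cov_red (ctx h) h.hAV n12 (forall_mem_cons' (cov13 h) (forall_mem_cons' (cov14 h) (forall_mem_cons' (cov15 h) (forall_mem_cons' (cov16 h) (forall_mem_cons' (cov17 h) (forall_mem_cons' (cov18 h) (forall_mem_cons' (cov19 h) (forall_mem_cons' (cov20 h) (forall_mem_cons' (cov21 h) (forall_mem_cons' (cov22 h) (forall_mem_cons' (cov23 h) (forall_mem_cons' (cov24 h) (forall_mem_cons' (cov25 h) (forall_mem_cons' (cov26 h) (forall_mem_cons' (cov27 h) (forall_mem_cons' (cov28 h) (forall_mem_cons' (cov29 h) (forall_mem_cons' (cov30 h) forall_mem_nil'))))))))))))))))))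

theorem cov11 {Γ X : Type*} [Group Γ] [MulAction Γ X] {T : Lst X J.n} {gen : ℕ → Γ} {A : Subgroup Γ} (h : J.Model T gen A) : Cov h.M (J.el gen) [L0, L1, L2] R [nat_lit 0, nat_lit 540] :=
  cov_full (ctx h) n11

theorem cov10 {Γ X : Type*} [Group Γ] [MulAction Γ X] {T : Lst X J.n} {gen : ℕ → Γ} {A : Subgroup Γ} (h : J.Model T gen A) : Cov h.M (J.el gen) [L0, L1, L2] R [nat_lit 0, nat_lit 570] :=
  cov_full (ctx h) n10

theorem cov9 {Γ X : Type*} [Group Γ] [MulAction Γ X] {T : Lst X J.n} {gen : ℕ → Γ} {A : Subgroup Γ} (h : J.Model T gen A) : Cov h.M (J.el gen) [L0, L1, L2] R [nat_lit 0, nat_lit 500] :=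
  cov_full (ctx h) n9

theorem cov8 {Γ X : Type*} [Group Γ] [MulAction Γ X] {T : Lst X J.n} {gen : ℕ → Γ} {A : Subgroup Γ} (h : J.Model T gen A) : Cov h.M (J.el gen) [L0, L1, L2] R [nat_lit 0, nat_lit 430] :=
  cov_full (ctx h) n8

theorem cov7 {Γ X : Type*} [Group Γ] [MulAction Γ X] {T : Lst X J.n} {gen : ℕ → Γ} {A : Subgroup Γ} (h : J.Model T gen A) : Cov h.M (J.el gen) [L0, L1, L2] R [nat_lit 0, nat_lit 360] :=
  cov_full (ctx h) n7

theorem cov6 {Γ X : Type*} [Group Γ] [MulAction Γ X] {T : Lst X J.n} {gen : ℕ → Γ} {A : Subgroup Γ} (h : J.Model T gen A) : Cov h.M (J.el gen) [L0, L1, L2] R [nat_lit 0, nat_lit 390] :=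
  cov_full (ctx h) n6

theorem cov5 {Γ X : Type*} [Group Γ] [MulAction Γ X] {T : Lst X J.n} {gen : ℕ → Γ} {A : Subgroup Γ} (h : J.Model T gen A) : Cov h.M (J.el gen) [L0, L1, L2] R [nat_lit 0, nat_lit 340] :=
  cov_full (ctx h) n5

theorem cov4 {Γ X : Type*} [Group Γ] [MulAction Γ X] {T : Lst X J.n} {gen : ℕ → Γ} {A : Subgroup Γ} (h : J.Model T gen A) : Cov h.M (J.el gen) [L0, L1, L2] R [nat_lit 0, nat_lit 330] :=
  cov_full (ctx h) n4

theorem cov3 {Γ X : Type*} [Group Γ] [MulAction Γ X] {T : Lst X J.n} {gen : ℕ → Γ} {A : Subgroup Γ} (h : J.Model T gen A) : Cov h.M (J.el gen) [L0, L1, L2] R [nat_lit 0, nat_lit 320] :=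
  cov_full (ctx h) n3

theorem cov2 {Γ X : Type*} [Group Γ] [MulAction Γ X] {T : Lst X J.n} {gen : ℕ → Γ} {A : Subgroup Γ} (h : J.Model T gen A) : Cov h.M (J.el gen) [L0, L1, L2] R [nat_lit 0, nat_lit 310] :=
  cov_full (ctx h) n2

theorem cov1 {Γ X : Type*} [Group Γ] [MulAction Γ X] {T : Lst X J.n} {gen : ℕ → Γ} {A : Subgroup Γ} (h : J.Model T gen A) : Cov h.M (J.el gen) [L0, L1, L2] R [nat_lit 0] :=
  cov_red (ctx h) h.hAV n1 (forall_mem_cons' (cov2 h) (forall_mem_cons' (cov3 h) (forall_mem_cons' (cov4 h) (forall_mem_cons' (cov5 h) (forall_mem_cons' (cov6 h) (forall_mem_cons' (cov7 h) (forall_mem_cons' (cov8 h) (forall_mem_cons' (cov9 h) (forall_mem_cons' (cov10 h) (forall_mem_cons' (cov11 h) forall_mem_nil'))))))))))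

theorem cov0 {Γ X : Type*} [Group Γ] [MulAction Γ X] {T : Lst X J.n} {gen : ℕ → Γ} {A : Subgroup Γ} (h : J.Model T gen A) : Cov h.M (J.el gen) [L0, L1, L2] R [] :=
  cov_red (ctx h) h.hAV n0 (forall_mem_cons' (cov1 h) (forall_mem_cons' (cov12 h) (forall_mem_cons' (cov31 h) (forall_mem_cons' (cov48 h) forall_mem_nil'))))

theorem classes {Γ X : Type*} [Group Γ] [MulAction Γ X] {T : Lst X J.n} {gen : ℕ → Γ} {A : Subgroup Γ} (h : J.Model T gen A) : ∀ g ∈ J.G gen, ∃ j, j < 16 ∧ ∃ c ∈ J.G gen, c * g = R.x (J.el gen) j * c := by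
  rw [← GpL_eq]; exact (cov0 h).all

theorem ords {Γ X : Type*} [Group Γ] [MulAction Γ X] {T : Lst X J.n} {gen : ℕ → Γ} {A : Subgroup Γ} (h : J.Model T gen A) : ∀ j, j < 16 → orderOf (R.x (J.el gen) j) = nth os j :=
  specChk_ord (ctx h) sp

theorem spec {Γ X : Type*} [Group Γ] [MulAction Γ X] {T : Lst X J.n} {gen : ℕ → Γ} {A : Subgroup Γ} (h : J.Model T gen A) : Set.range (orderOf : J.G gen → ℕ) = {n | n ∈ [1, 2, 3, 4, 6, 7, 8, 12]} := by
  rw [← GpL_eq]; exact spec_of_chk (ctx h) (cov0 h) sp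

end Cfsg.Agent.Comp.G22
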